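import Mathlib.RingTheory.Regular.RegularSequence
import Mathlib.RingTheory.Nakayama
import Mathlib.RingTheory.LocalRing.MaximalIdeal.Basic

/-!
Two regular sequences generating the same ideal in a Noetherian local ring are linked by permutations and
changes of the last element.
-/

set_option autoImplicit false
universe u

namespace Groth.L28.RegChain

open RingTheory.Sequence Ideal IsLocalRing

variable {A : Type u} [CommRing A]

/-- the allowed moves -/
def Step (w w' : List A) : Prop := w.Perm w' ∨ (w.length = w'.length ∧ w.dropLast = w'.dropLast)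

/-- being linked by a chain of regular sequences generating the same ideal -/
def Reach (u w : List A) : Prop :=
  ∃ ws : List (List A), ws.head? = some u ∧ ws.getLast? = some w ∧
    (∀ x ∈ ws, IsRegular A x ∧ Ideal.ofList x = Ideal.ofList u) ∧ List.IsChain Step ws

lemma Reach.regular {u w : List A} (h : Reach u w) : IsRegular A w ∧ Ideal.ofList w = Ideal.ofList u := by
  obtain ⟨ws, _, hl, hm, _⟩ := h
  exact hm w (List.mem_of_getLast? hl)

lemma reach_self {u : List A} (hu : IsRegular A u) : Reach u u :=
  ⟨[u], rfl, rfl, fun x hx => by rw [List.mem_singleton] at hx; subst hx; exact ⟨hu, rfl⟩,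
    List.isChain_singleton u⟩

lemma Reach.step {u w w' : List A} (h : Reach u w) (hs : Step w w') (hr : IsRegular A w')
    (hI : Ideal.ofList w' = Ideal.ofList w) : Reach u w' := by
  obtain ⟨ws, hh, hl, hm, hc⟩ := h
  have hne : ws ≠ [] := by rintro rfl; simp at hh
  refine ⟨ws ++ [w'], ?_, by simp, ?_, ?_⟩
  · rw [List.head?_append, hh]; rfl
  · intro x hx
    rcases List.mem_append.1 hx with hx | hx
    · exact hm x hx
    · rw [List.mem_singleton] at hx
      subst hx
      exact ⟨hr, hI.trans (hm w (List.mem_of_getLast? hl)).2⟩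
  · refine hc.append (List.isChain_singleton _) ?_
    intro x hx y hy
    rw [hl] at hx
    simp only [Option.mem_def, Option.some.injEq, List.head?_cons] at hx hy
    subst hx; subst hy
    exact hs

lemma ofList_perm {w w' : List A} (h : w.Perm w') : Ideal.ofList w = Ideal.ofList w' :=
  congrArg Ideal.span (Set.ext fun _ => h.mem_iff)

lemma isSMulRegular_replace {S : List A} {e y c : A} (hc : IsUnit c) (hy : y ∈ Ideal.ofList S)
    (h : IsSMulRegular (A ⧸ (Ideal.ofList S • ⊤ : Submodule A A)) e) :
    IsSMulRegular (A ⧸ (Ideal.ofList S • ⊤ : Submodule A A)) (c * e + y) := by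
  have hce := (hc.isSMulRegular (A ⧸ (Ideal.ofList S • ⊤ : Submodule A A))).mul h
  intro p q hpq
  apply hce
  have hy0 : ∀ r : A ⧸ (Ideal.ofList S • ⊤ : Submodule A A), y • r = 0 := fun r => by
    obtain ⟨m, rfl⟩ := Submodule.Quotient.mk_surjective _ r
    rw [← Submodule.Quotient.mk_smul, Submodule.Quotient.mk_eq_zero]
    exact Submodule.smul_mem_smul hy Submodule.mem_top
  simpa [add_smul, hy0] using hpq

section

variable [IsLocalRing A]

lemma mem_max_of_regular {w : List A} (h : IsRegular A w) {x : A} (hx : x ∈ w) :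
    x ∈ maximalIdeal A := by
  refine IsLocalRing.le_maximalIdeal ?_ (Ideal.subset_span (s := {r | r ∈ w}) hx)
  intro htop
  apply h.top_ne_smul
  show (⊤ : Submodule A A) = Ideal.ofList w • ⊤
  rw [show Ideal.ofList w = ⊤ from htop, Submodule.top_smul]

/-- either some coefficient is a unit or the element is redundant -/
lemma exists_unit_coeff (T : List A) : ∀ (R : List A) (x : A), x ∈ Ideal.ofList (T ++ R) →
    (∃ R1 e R2 c, R = R1 ++ e :: R2 ∧ IsUnit c ∧ x - c * e ∈ Ideal.ofList (T ++ (R1 ++ R2))) ∨
      x ∈ Ideal.ofList T ⊔ maximalIdeal A * Ideal.ofList (T ++ R) := by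
  intro R
  induction R with
  | nil => intro x hx; right; rw [List.append_nil] at hx; exact Ideal.mem_sup_left hx
  | cons e R ih =>
    intro x hx
    rw [Ideal.ofList_append, Ideal.ofList_cons, sup_left_comm] at hx
    obtain ⟨ce, hce, y, hy, rfl⟩ := Submodule.mem_sup.1 hx
    obtain ⟨c, rfl⟩ := Ideal.mem_span_singleton'.1 hce
    have hy' : y ∈ Ideal.ofList (T ++ R) := by rwa [Ideal.ofList_append]
    by_cases hc : IsUnit c
    · exact Or.inl ⟨[], e, R, c, rfl, hc, by simpa [Ideal.ofList_append] using hy⟩
    · have hcm : c ∈ maximalIdeal A := (IsLocalRing.mem_maximalIdeal c).2 hc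
      rcases ih y hy' with ⟨R1, e', R2, c', rfl, hc', hmem⟩ | h
      · refine Or.inl ⟨e :: R1, e', R2, c', rfl, hc', ?_⟩
        have h1 : c * e + (y - c' * e') ∈ Ideal.ofList (T ++ (e :: R1 ++ R2)) := by
          refine add_mem (Ideal.mul_mem_left _ _ (Ideal.subset_span (by simp))) ?_
          refine Ideal.span_mono (fun z hz => ?_) hmem
          simp only [Set.mem_ofPred_eq, List.mem_append, List.mem_cons] at hz ⊢
          rcases hz with hz | hz | hz
          · exact Or.inl hz
          · exact Or.inr (Or.inl (Or.inr hz))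
          · exact Or.inr (Or.inr hz)
        rwa [add_sub_assoc]
      · right
        refine add_mem (Ideal.mem_sup_right (Ideal.mul_mem_mul hcm (Ideal.subset_span (by simp)))) ?_
        have hsub : Ideal.ofList (T ++ R) ≤ Ideal.ofList (T ++ e :: R) := Ideal.span_mono fun z hz => ?_
        refine sup_le_sup le_rfl (Ideal.mul_mono_right hsub) h
        simp only [Set.mem_ofPred_eq, List.mem_append, List.mem_cons] at hz ⊢
        rcases hz with hz | hz
        · exact Or.inl hz
        · exact Or.inr (Or.inr hz)

variable [IsNoetherianRing A]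

lemma not_redundant {v : List A} (hv : IsRegular A v) {T R : List A} {x : A} (hp : v.Perm (T ++ x :: R)) :
    x ∉ Ideal.ofList T ⊔ maximalIdeal A * Ideal.ofList v := by
  intro hx
  have hp' : v.Perm ((T ++ R) ++ [x]) :=
    hp.trans (List.perm_middle.trans (List.perm_append_comm (l₁ := [x])))
  have hr := IsLocalRing.isRegular_of_perm hv hp'
  have hle : Ideal.ofList v ≤ Ideal.ofList (T ++ R) := by
    refine Submodule.le_of_le_smul_of_le_jacobson_bot (IsNoetherian.noetherian _)
      (IsLocalRing.maximalIdeal_le_jacobson (⊥ : Ideal A)) ?_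
    rw [smul_eq_mul]
    refine Ideal.span_le.2 fun z hz => ?_
    have hz' := hp'.mem_iff.1 hz
    rcases List.mem_append.1 hz' with hz' | hz'
    · exact Ideal.mem_sup_left (Ideal.subset_span hz')
    · rw [List.mem_singleton] at hz'
      subst hz'
      have hsub : Ideal.ofList T ≤ Ideal.ofList (T ++ R) := Ideal.span_mono fun w hw => List.mem_append.2 (Or.inl hw)
      have hle' : Ideal.ofList T ⊔ maximalIdeal A * Ideal.ofList v ≤
          Ideal.ofList (T ++ R) ⊔ maximalIdeal A * Ideal.ofList v := sup_le_sup hsub le_rfl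
      exact hle' hx
  have hxS : x ∈ Ideal.ofList (T ++ R) := hle (Ideal.subset_span (hp'.mem_iff.2 (by simp)))
  have hreg := ((isWeaklyRegular_singleton_iff _ x).1
    ((isWeaklyRegular_append_iff A (T ++ R) [x]).1 hr.toIsWeaklyRegular).2)
  apply hr.top_ne_smul
  have hone : (Submodule.Quotient.mk (1 : A) : A ⧸ (Ideal.ofList (T ++ R) • ⊤ : Submodule A A)) = 0 := by
    apply hreg
    show x • Submodule.Quotient.mk (1 : A) = x • 0
    rw [smul_zero, ← Submodule.Quotient.mk_smul, Submodule.Quotient.mk_eq_zero]
    exact Submodule.smul_mem_smul hxS Submodule.mem_top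
  rw [Submodule.Quotient.mk_eq_zero] at hone
  refine (eq_top_iff.2 fun z _ => ?_).symm
  have hsup : (Ideal.ofList (T ++ R) • ⊤ : Submodule A A) ≤ Ideal.ofList ((T ++ R) ++ [x]) • ⊤ :=
    Submodule.smul_mono_left (by rw [Ideal.ofList_append (T ++ R)]; exact le_sup_left)
  simpa using Submodule.smul_mem _ z (hsup hone)

lemma reach_take {u v : List A} (hu : IsRegular A u) (hv : IsRegular A v)
    (huv : Ideal.ofList u = Ideal.ofList v) : ∀ k ≤ v.length,
    ∃ w R, Reach u w ∧ w.Perm (v.take k ++ R) := by
  intro k
  induction k with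
  | zero => intro _; exact ⟨u, u, reach_self hu, by simp⟩
  | succ k ih =>
    intro hk
    obtain ⟨w, R, hw, hperm⟩ := ih (by omega)
    set T := v.take k with hT
    set x := v[k]'(by omega) with hx
    have hvT : v.Perm (T ++ x :: v.drop (k + 1)) := by
      rw [hT, hx, List.getElem_cons_drop, List.take_append_drop]
    have hIw : Ideal.ofList (T ++ R) = Ideal.ofList v := by rw [← ofList_perm hperm, hw.regular.2, huv]
    rcases exists_unit_coeff T R x (hIw ▸ Ideal.subset_span (hvT.mem_iff.2 (by simp))) with
      ⟨R1, e, R2, c, rfl, hc, hmem⟩ | hbad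
    · set S := T ++ (R1 ++ R2) with hS
      have hp1 : w.Perm (S ++ [e]) := hperm.trans <| by
        rw [hS, List.append_assoc]
        exact List.Perm.append_left T (List.perm_middle.trans (List.perm_append_comm (l₁ := [e])))
      have hr1 := IsLocalRing.isRegular_of_perm hw.regular.1 hp1
      have hw1 : Reach u (S ++ [e]) := hw.step (Or.inl hp1) hr1 (ofList_perm hp1).symm
      have hxe : c * e + (x - c * e) = x := by ring
      have hI2 : Ideal.ofList (S ++ [x]) = Ideal.ofList (S ++ [e]) := by
        rw [Ideal.ofList_append, Ideal.ofList_append S [e], Ideal.ofList_singleton, Ideal.ofList_singleton]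
        refine le_antisymm (sup_le le_sup_left ?_) (sup_le le_sup_left ?_) <;>
          rw [Ideal.span_le, Set.singleton_subset_iff, SetLike.mem_coe]
        · rw [← hxe]
          exact add_mem (Ideal.mem_sup_right (Ideal.mul_mem_left _ _ (Ideal.mem_span_singleton_self e)))
            (Ideal.mem_sup_left hmem)
        · obtain ⟨d, hd⟩ := hc.exists_left_inv
          have he : e = d * x - d * (x - c * e) := by
            rw [mul_sub, sub_sub_cancel, ← mul_assoc, hd, one_mul]
          rw [he]
          exact sub_mem (Ideal.mem_sup_right (Ideal.mul_mem_left _ _ (Ideal.mem_span_singleton_self x)))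
            (Ideal.mem_sup_left (Ideal.mul_mem_left _ _ hmem))
      have hweak : IsWeaklyRegular A (S ++ [x]) := by
        have h0 := (isWeaklyRegular_append_iff A S [e]).1 hr1.toIsWeaklyRegular
        refine (isWeaklyRegular_append_iff A S [x]).2 ⟨h0.1, (isWeaklyRegular_singleton_iff _ x).2 ?_⟩
        rw [← hxe]
        exact isSMulRegular_replace hc hmem ((isWeaklyRegular_singleton_iff _ e).1 h0.2)
      have hr2 : IsRegular A (S ++ [x]) :=
        ⟨hweak, by rw [hI2]; exact hr1.top_ne_smul⟩
      refine ⟨S ++ [x], R1 ++ R2, hw1.step (Or.inr ⟨by simp, by simp⟩) hr2 hI2, ?_⟩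
      rw [List.take_succ_eq_append_getElem (by omega), ← hT, ← hx, hS, List.append_assoc T (R1 ++ R2),
        List.append_assoc T [x]]
      exact List.Perm.append_left T List.perm_append_comm
    · rw [hIw] at hbad
      exact absurd hbad (not_redundant hv hvT)

theorem reach {u v : List A} (hu : IsRegular A u) (hv : IsRegular A v)
    (huv : Ideal.ofList u = Ideal.ofList v) : Reach u v := by
  obtain ⟨w, R, hw, hperm⟩ := reach_take hu hv huv v.length le_rfl
  rw [List.take_length] at hperm
  have hR : R = [] := by
    cases R with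
    | nil => rfl
    | cons e R =>
      exfalso
      apply not_redundant hw.regular.1 hperm
      refine Ideal.mem_sup_left ?_
      rw [← huv, ← hw.regular.2]
      exact Ideal.subset_span (hperm.mem_iff.2 (by simp))
  rw [hR, List.append_nil] at hperm
  exact hw.step (Or.inl hperm) hv (ofList_perm hperm).symm

end

end Groth.L28.RegChain
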